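import Cfsg.Agent.H502.EP.HN
import Cfsg.Agent.S2082
import Cfsg.Agent.H59.EP.UBGen
import Cfsg.Agent.H173.EP.LineBound
import Cfsg.Agent.H419.EP.Big
import Cfsg.Agent.H914.Uni

/-!
# S3499, layer V, the row `soc(A) = HN` (helper502)

`|Q| ≤ bnd` by UB1 and UB2; `dim ≥ 20` in characteristic `≠ 5`, `≥ 16` in characteristic 5; `|F| = 2` and dimension 20
is impossible.
-/

set_option autoImplicit false

namespace Cfsg.Agent.H502.EP.HN

open Cfsg Cfsg.Agent.H284 Cfsg.Agent.H419.EP Cfsg.Agent.H59.EP Cfsg.Agent.H203.LS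
open Cfsg.Agent.HN.Pres Cfsg.Agent.HN.P1408 Cfsg.Agent.HN.H0Basic
open scoped MatrixGroups Matrix

section

variable {Q : Type} [Group Q] [Finite Q] {A : Subgroup Q} {Γ : Subgroup (MulAut Q)} {ι : Type} [Fintype ι]
    [DecidableEq ι] {F : Type} [Field F] [Fintype F] {S P : Subgroup (GL ι F)}

/-- lower bounds for projective degrees apply to the core -/
theorem le_of_ls (b : Big A Γ S P) {L : Type} [Group L] (e : socle P ≃* L) {r d : ℕ} (h : LS.{0, 0, 0} r d L)
    (hr : (r : F) ≠ 0) : d ≤ Fintype.card ι := by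
  classical
  have hfin : Finite P := inferInstance
  let π : P →* L := e.toMonoidHom.comp (QuotientGroup.mk' ((Cfsg.Geo.scalars ι F).subgroupOf P))
  have hker : π.ker = (Cfsg.Geo.scalars ι F).subgroupOf P := by
    ext x
    rw [MonoidHom.mem_ker]
    show e (QuotientGroup.mk' _ x) = 1 ↔ _
    rw [map_eq_one_iff e e.injective]
    exact QuotientGroup.eq_one_iff x
  let ρ : P →* GL (Fin (Fintype.card ι)) F :=
    (Units.mapEquiv (Matrix.reindexAlgEquiv F F (Fintype.equivFin ι) :
      Matrix ι ι F ≃ₐ[F] _).toMulEquiv).toMonoidHom.comp P.subtype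
  refine h P π (e.surjective.comp (QuotientGroup.mk'_surjective _)) ?_ ?_ F hr (Fintype.card ι) ρ ?_
  · rw [hker]
    intro x hx
    rw [Subgroup.mem_center_iff]
    intro y
    apply Subtype.ext
    obtain ⟨c, hc⟩ := (Cfsg.Geo.mem_scalars_iff _).1 (Subgroup.mem_subgroupOf.1 hx)
    apply Units.ext
    show ((y : GL ι F) : Matrix ι ι F) * ((x : GL ι F) : Matrix ι ι F) =
      ((x : GL ι F) : Matrix ι ι F) * ((y : GL ι F) : Matrix ι ι F)
    rw [hc, Matrix.mul_smul, Matrix.smul_mul, mul_one, one_mul]
  · have h1 := b.core.perfect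
    apply Subgroup.map_injective P.subtype_injective
    rw [commutator_def, Subgroup.map_commutator, ← MonoidHom.range_eq_map, Subgroup.range_subtype]
    exact h1
  · intro h1
    apply b.core.nonabelian
    have h2 : ∀ x : P, x = 1 := by
      intro x
      have h3 := DFunLike.congr_fun h1 x
      apply P.subtype_injective
      apply (Units.mapEquiv (Matrix.reindexAlgEquiv F F (Fintype.equivFin ι) :
        Matrix ι ι F ≃ₐ[F] _).toMulEquiv).injective
      rw [map_one, map_one]
      exact h3
    constructor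
    constructor
    intro x y
    obtain ⟨x, rfl⟩ := QuotientGroup.mk_surjective x
    obtain ⟨y, rfl⟩ := QuotientGroup.mk_surjective y
    rw [h2 x, h2 y]

/-- the bound -/
def bnd (l : List (ℕ × ℕ)) (N : ℕ) : ℕ :=
  N * (1 + ((l.map fun x => gal x.1 x.2).sum * (N / 6) + N ^ 2 / 60 + N ^ 3 / 12744000) * (2 * (N / 6)))

/-- **UB1 + UB2** for the order of `Q` -/
theorem card_le (hg : TwoGen.{0}) (b : Big A Γ S P) (l : List (ℕ × ℕ)) (h1 : ∀ x ∈ l, x.1.Prime ∧ 0 < x.2)
    (h2 : (l.map Prod.fst).Nodup) {N : ℕ} (hN : (l.map fun x => x.1 ^ x.2).prod = N) (hc : Nat.card A ∣ N)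
    (hB : N < 60 ^ 61) : Nat.card Q ≤ bnd l N := by
  have hN0 : 0 < N := by
    rw [← hN]
    apply Nat.pos_of_ne_zero
    apply List.prod_ne_zero
    intro h0
    obtain ⟨x, hx, e⟩ := List.mem_map.1 h0
    exact (pow_ne_zero _ (h1 x hx).1.ne_zero) e
  have hab : ∀ K : Subgroup Q, K ≤ A → (∀ a ∈ A, ∀ k ∈ K, a * k * a⁻¹ ∈ K) →
      (∀ a ∈ K, ∀ b ∈ K, a * b = b * a) → K = ⊥ := fun K hK hn hab =>
    b.hasSoc.no_abelian b.core.simple (fun h => b.core.nonabelian ⟨⟨h⟩⟩) hK hn hab
  have h3 := EPT.ncard_le_gen_dvd b.ept hg hab l h1 h2 (hN ▸ hc) (hN ▸ hB)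
  have h4 := index_le_of h3 (Cfsg.Agent.H173.EP.ub1 b.simple b.ept (by norm_num) fun _ hx => EPT.six_le b.ept hab hx)
    le_rfl
  rw [hN] at h4
  have h5 : Nat.card A ≤ N := Nat.le_of_dvd hN0 hc
  rw [← Subgroup.card_mul_index A, bnd]
  refine Nat.mul_le_mul h5 (h4.trans (Nat.add_le_add_left (Nat.mul_le_mul_left _ (Nat.mul_le_mul_left _ ?_)) 1))
  exact Nat.div_le_div_right h5

/-- the factorisation of `2 |HN|` -/
def lHN : List (ℕ × ℕ) := [(2, 15), (3, 6), (5, 6), (7, 1), (11, 1), (19, 1)]

theorem card_aut : Nat.card (MulAut Spor.HN) ∣ 546061824000000 := by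
  have hfin := KFacts.HN.finite_HN
  have h1 : (Inn Spor.HN).index = 2 := S2082.result
  have h2 : Nat.card (MulAut.conj : Spor.HN →* MulAut Spor.HN).range ∣ Nat.card Spor.HN :=
    Subgroup.card_range_dvd _
  rw [S2056.card_HN] at h2
  have h3 := Subgroup.card_mul_index (MulAut.conj : Spor.HN →* MulAut Spor.HN).range
  rw [← h3, show (MulAut.conj : Spor.HN →* MulAut Spor.HN).range.index = 2 from h1]
  have h4 : 546061824000000 = 273030912000000 * 2 := by norm_num
  rw [h4]
  exact Nat.mul_dvd_mul_right h2 2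

theorem num_A : 8 * bnd lHN 546061824000000 < 2 ^ (22 * (22 - 1) / 2) := by decide +kernel
theorem num_B : 8 * bnd lHN 546061824000000 < 3 ^ (20 * (20 - 1) / 2) := by decide +kernel
theorem num_C : 8 * bnd lHN 546061824000000 < 5 ^ (16 * (16 - 1) / 2) := by decide +kernel
theorem num_D : bnd lHN 546061824000000 < 2 ^ (20 ^ 2 - 2) := by decide +kernel

/-- over the field with two elements the dimension is not 20 -/
theorem no_twenty (b : Big A Γ S P) (e : socle P ≃* Spor.HN) (hF : Fintype.card F = 2) (hn : Fintype.card ι = 20) :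
    False := by
  classical
  have hsc : ∀ g : GL ι F, g ∈ Cfsg.Geo.scalars ι F → g = 1 := by
    intro g hg
    obtain ⟨c, hc⟩ := (Cfsg.Geo.mem_scalars_iff _).1 hg
    have h1 : c = 1 := by
      have h2 : Fintype.card Fˣ = 1 := by rw [Fintype.card_units, hF]
      exact (Fintype.card_le_one_iff.1 h2.le) c 1
    apply Units.ext
    rw [hc, h1, Units.val_one, one_smul]
    rfl
  let π : P →* Spor.HN := e.toMonoidHom.comp (QuotientGroup.mk' ((Cfsg.Geo.scalars ι F).subgroupOf P))
  have hπi : Function.Injective π := by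
    rw [injective_iff_map_eq_one]
    intro x hx
    have h1 : QuotientGroup.mk' ((Cfsg.Geo.scalars ι F).subgroupOf P) x = 1 := by
      apply e.injective
      rw [map_one]
      exact hx
    have h2 : x ∈ (Cfsg.Geo.scalars ι F).subgroupOf P := (QuotientGroup.eq_one_iff x).1 h1
    exact Subtype.ext (hsc _ (Subgroup.mem_subgroupOf.1 h2))
  have hπs : Function.Surjective π := e.surjective.comp (QuotientGroup.mk'_surjective _)
  let E : P ≃* Spor.HN := MulEquiv.ofBijective π ⟨hπi, hπs⟩
  let K := AlgebraicClosure F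
  let f : H0 →* GL ι F := P.subtype.comp (E.symm.toMonoidHom.comp Cfsg.Agent.HN.NormalH.ψ)
  have hf : Function.Injective f :=
    P.subtype_injective.comp (E.symm.injective.comp ψ_inj)
  let M : Matrix ι ι F →* Matrix ι ι K := ((algebraMap F K).mapMatrix : Matrix ι ι F →+* Matrix ι ι K).toMonoidHom
  have hM : Function.Injective M := Matrix.map_injective (algebraMap F K).injective
  let L : Matrix ι ι K →* ((ι → K) →ₗ[K] (ι → K)) := (Matrix.toLinAlgEquiv' : Matrix ι ι K ≃ₐ[K] _).toMulEquiv.toMonoidHom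
  have hL : Function.Injective L := (Matrix.toLinAlgEquiv' : Matrix ι ι K ≃ₐ[K] _).injective
  let ρ : H0 →* ((ι → K) →ₗ[K] (ι → K)) := L.comp (M.comp ((Units.coeHom _).comp f))
  have hρ : Function.Injective ρ := hL.comp (hM.comp (Units.val_injective.comp hf))
  have h2F : (2 : F) = 0 := by
    have h1 : ((Fintype.card F : ℕ) : F) = 0 := FiniteField.cast_card_eq_zero F
    rw [hF] at h1
    exact_mod_cast h1
  have h2K : (2 : K) = 0 := by
    have h1 := congrArg (algebraMap F K) h2F
    rwa [map_ofNat, map_zero] at h1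
  refine not_twenty (K := K) (V := ι → K) ρ h2K ?_ ?_ ?_
  · rw [Module.finrank_fintype_fun_eq_card, hn]
  · intro h
    exact τ_ne_one (hρ (h.trans (map_one ρ).symm))
  · intro h
    exact c_ne (hρ (h.trans (map_one ρ).symm))

end

/-- **The row `HN`** -/
theorem hn (hg : TwoGen.{0}) : BigOf (fun L _ => Spor.IsoHN L) := by
  rintro Q _ _ A Γ ι _ _ F _ _ S P b ⟨e⟩
  obtain ⟨f, hf⟩ := (b.hasSoc' e).exists_hom
  have hA : Nat.card A ∣ 546061824000000 := (Subgroup.card_dvd_of_injective f hf).trans card_aut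
  have hQ : Nat.card Q ≤ bnd lHN 546061824000000 := card_le hg b lHN
    (by
      intro x hx
      simp only [lHN, List.mem_cons, List.not_mem_nil, or_false] at hx
      rcases hx with rfl | rfl | rfl | rfl | rfl | rfl <;> norm_num) (by decide)
    (N := 546061824000000) (by norm_num [lHN]) hA (by norm_num)
  have hord := b.ord
  have h8 : 8 * Nat.card Q ≤ 8 * bnd lHN 546061824000000 := Nat.mul_le_mul_left 8 hQ
  have hF := b.two_le
  by_cases h5 : ((5 : ℕ) : F) = 0
  · -- characteristic 5
    have hcp : CharP F 5 := by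
      obtain ⟨p, hp⟩ := CharP.exists F
      have h3 : p ∣ 5 := (CharP.cast_eq_zero_iff F p 5).1 h5
      rcases (Nat.dvd_prime (by norm_num : Nat.Prime 5)).1 h3 with rfl | rfl
      · exact absurd ((CharP.cast_eq_zero_iff F 1 1).2 dvd_rfl) (by rw [Nat.cast_one]; exact one_ne_zero)
      · exact hp
    have h2F : ((2 : ℕ) : F) ≠ 0 := by
      intro h3
      have := (CharP.cast_eq_zero_iff F 5 2).1 h3
      omega
    have hn := le_of_ls b e ls_two h2F
    have h5F : 5 ≤ Fintype.card F := by
      have := Fact.mk (by norm_num : Nat.Prime 5)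
      obtain ⟨k, -, hk⟩ := FiniteField.card F 5
      rw [hk]
      exact Nat.le_self_pow k.2.ne' 5
    have h3 : 5 ^ (16 * (16 - 1) / 2) ≤ 8 * Nat.card Q := by
      refine le_trans ?_ hord
      refine le_trans (Nat.pow_le_pow_left h5F _) (Nat.pow_le_pow_right (by omega) ?_)
      apply Nat.div_le_div_right
      exact Nat.mul_le_mul hn (by omega)
    exact absurd (h3.trans h8) (not_le.2 num_C)
  · have hn := le_of_ls b e ls_five h5
    rcases Nat.lt_or_ge (Fintype.card F) 3 with h3 | h3
    · have hF2 : Fintype.card F = 2 := by omega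
      rcases b.kind with ⟨-, ho, -, -, -⟩ | ⟨f, -, -, h3', -, -, -⟩ | ⟨q, hq, σ, f, -, -, -, -, -, -⟩ |
        ⟨Qf, hQf, -, -, -⟩
      · rw [hF2] at ho
        have h4 : 2 ^ (20 ^ 2 - 2) ≤ Nat.card Q := by
          refine le_trans (Nat.pow_le_pow_right (by omega) ?_) ho
          exact Nat.sub_le_sub_right (Nat.pow_le_pow_left hn 2) 2
        exact absurd (h4.trans hQ) (not_le.2 num_D)
      · omega
      · rw [hF2] at hq
        have : q < 2 := by
          by_contra hc
          have := Nat.pow_le_pow_left (not_lt.1 hc) 2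
          omega
        interval_cases q <;> omega
      · -- the dimension is even
        have h2F : (2 : F) = 0 := by
          have h1 : ((Fintype.card F : ℕ) : F) = 0 := FiniteField.cast_card_eq_zero F
          rw [hF2] at h1
          exact_mod_cast h1
        have hneg : ∀ x : F, -x = x := by
          intro x
          have h4 : x + x = 0 := by rw [← two_mul, h2F, zero_mul]
          exact neg_eq_of_add_eq_zero_left h4
        have hsp : Cfsg.Geo.IsSymplecticForm (QuadraticMap.polar Qf) :=
          { bilinear := hQf.polar_bilinear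
            skew := fun v w => by rw [hneg, QuadraticMap.polar_comm]
            alternating := fun v => by
              have h4 : v + v = (2 : F) • v := (two_smul F v).symm
              rw [QuadraticMap.polar, h4, hQf.smul, h2F]
              have h6 : (0 : F) ^ 2 * Qf v - Qf v - Qf v = - ((2 : F) * Qf v) := by ring
              rw [h6, h2F, zero_mul, neg_zero]
            nondegenerate := hQf.nondegenerate }
        have heven := Cfsg.Agent.H914.even_card_of_symplectic hsp
        rcases Nat.lt_or_ge (Fintype.card ι) 22 with h4 | h4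
        · have h20 : Fintype.card ι = 20 := by
            rcases heven with ⟨m, hm⟩
            omega
          exact no_twenty b e hF2 h20
        · exact absurd ((b.ord_two h4).trans h8) (not_le.2 num_A)
    · have h4 : 3 ^ (20 * (20 - 1) / 2) ≤ 8 * Nat.card Q := by
        refine le_trans ?_ hord
        refine le_trans (Nat.pow_le_pow_left h3 _) (Nat.pow_le_pow_right (by omega) ?_)
        apply Nat.div_le_div_right
        exact Nat.mul_le_mul hn (by omega)
      exact absurd (h4.trans h8) (not_le.2 num_B)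

/-- **The row `HN`** in the form of the task -/
theorem hn_false (hg : TwoGen.{0}) {Q : Type} [Group Q] [Finite Q] {A : Subgroup Q} {Γ : Subgroup (MulAut Q)} {ι : Type}
    [Fintype ι] [DecidableEq ι] {F : Type} [Field F] [Fintype F] {S P : Subgroup (GL ι F)} (b : Big A Γ S P)
    (h : Spor.IsoHN (socle P)) : False := hn hg b h

end Cfsg.Agent.H502.EP.HN
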