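import Cfsg.Agent.H388.EP.Heis
import Cfsg.Agent.H861.ExtraRep
import Cfsg.Agent.H823.Converse
import Cfsg.Agent.S2056
import Cfsg.Agent.KFacts.HN.Large
import Cfsg.Agent.KFacts.HN.Inst

/-!
# Degrees of representations of `HN` (helper502)

* `ls_five` : projective representations of `HN` in characteristic `≠ 5` have degree at least 20 (an extraspecial group
  `5^{1+2}` in the centraliser of an involution, its centre is fused by an element of order 4 modulo the centraliser);
* `ls_two` : in odd characteristic at least 16 (the large extraspecial group `2^{1+8}`);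
* `not_twenty` : in characteristic 2 the degree is not 20 (the involution commutes with the `5^{1+2}`);
-/

set_option autoImplicit false

universe u v w

namespace Cfsg.Agent.H502.EP.HN

open Cfsg Cfsg.Agent.HN.Pres Cfsg.Agent.HN.P1408 Cfsg.Agent.HN.H0Basic Cfsg.Agent.H203.LS Module

/-! ### words in `H0 = 2.HS.2` -/

/-- an element of order 5 -/
def wa : List ℕ := [1, 4, 3, 4, 4, 3, 0, 3, 3, 4, 0, 0]
/-- an element of order 5 -/
def wb : List ℕ := [0, 4, 3, 4, 1, 3, 4, 0, 3, 2, 4, 2, 1, 4, 3, 3, 1, 2, 4, 0, 3, 4, 2, 4]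
/-- their commutator -/
def wc : List ℕ := iw wb ++ (iw wa ++ (wb ++ wa))
/-- `c k = k c ^ 2` -/
def wk : List ℕ := [3, 4, 3, 0, 2, 2, 0, 2, 2, 0, 4, 2, 4, 2, 2, 2]

theorem pow_five (a : List ℕ) : hw a ^ 5 = hw (a ++ (a ++ (a ++ (a ++ a)))) := by
  rw [hw_append, hw_append, hw_append, hw_append]
  simp only [pow_succ, pow_zero, one_mul, mul_assoc]

theorem c_pow : hw wc ^ 5 = 1 := by
  rw [pow_five, ← hw_nil]
  exact hw_eq (by decide +kernel)

theorem ac : hw wa * hw wc = hw wc * hw wa := by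
  rw [← hw_append, ← hw_append]
  exact hw_eq (by decide +kernel)

theorem bc : hw wb * hw wc = hw wc * hw wb := by
  rw [← hw_append, ← hw_append]
  exact hw_eq (by decide +kernel)

theorem ba : hw wb * hw wa = hw wa * hw wb * hw wc := by
  rw [wc, hw_append, hw_append, hw_append, hw_iw, hw_iw]
  group

theorem ck : hw wc * hw wk = hw wk * hw wc ^ 2 := by
  rw [pow_two, ← hw_append, ← hw_append, ← hw_append]
  exact hw_eq (by decide +kernel)

theorem c_ne : hw wc ≠ 1 := by
  rw [← hw_nil]
  exact hw_ne (p := 0) (by decide +kernel) (by decide +kernel) (by norm_num) (by decide +kernel)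

theorem ck_pow (i : ℕ) : hw wc * hw wk ^ i = hw wk ^ i * hw wc ^ 2 ^ i := by
  induction i with
  | zero => simp
  | succ i ih =>
    have h1 : ∀ n : ℕ, hw wc ^ n * hw wk = hw wk * hw wc ^ (2 * n) := by
      intro n
      induction n with
      | zero => simp
      | succ n ihn =>
        calc hw wc ^ (n + 1) * hw wk = hw wc ^ n * (hw wc * hw wk) := by rw [pow_succ]; group
          _ = (hw wc ^ n * hw wk) * hw wc ^ 2 := by rw [ck]; group
          _ = hw wk * hw wc ^ (2 * n) * hw wc ^ 2 := by rw [ihn]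
          _ = hw wk * hw wc ^ (2 * (n + 1)) := by rw [mul_assoc, ← pow_add]; rfl
    calc hw wc * hw wk ^ (i + 1) = (hw wc * hw wk ^ i) * hw wk := by rw [pow_succ]; group
      _ = hw wk ^ i * (hw wc ^ 2 ^ i * hw wk) := by rw [ih]; group
      _ = hw wk ^ i * (hw wk * hw wc ^ (2 * 2 ^ i)) := by rw [h1]
      _ = _ := by rw [pow_succ (hw wk), pow_succ' 2 i]; group

/-- representations of `H0` in characteristic `≠ 5`, nontrivial on `c` -/
theorem twenty_le {K : Type w} [Field K] [IsAlgClosed K] {V : Type w} [AddCommGroup V] [Module K V]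
    [FiniteDimensional K V] (ρ : H0 →* (V →ₗ[K] V)) (h5 : (5 : K) ≠ 0) (hρ : ρ (hw wc) ≠ 1) : 20 ≤ finrank K V := by
  have h := Cfsg.Agent.H388.EP.heis_le ρ (by norm_num : Nat.Prime 5) (by exact_mod_cast h5) c_pow ac bc ba hρ
    (ι := Fin 4) (fun i => hw wk ^ (i : ℕ)) (fun i => 2 ^ (i : ℕ)) (fun i => ck_pow i) ?_ ?_
  · rwa [Fintype.card_fin] at h
  · intro i j hij
    have : ∀ i j : Fin 4, ((2 ^ (i : ℕ) : ℕ) : ZMod 5) = ((2 ^ (j : ℕ) : ℕ) : ZMod 5) → i = j := by decide
    exact this i j hij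
  · decide

theorem ψ_inj : Function.Injective Cfsg.Agent.HN.NormalH.ψ := KFacts.HN.emb.inj

/-- a nontrivial representation of a simple group is faithful -/
theorem rep_inj {G : Type u} [Group G] [IsSimpleGroup G] {K : Type v} {V : Type w} [Field K] [AddCommGroup V] [Module K V]
    (ρ : G →* (V →ₗ[K] V)) (h : ∃ g, ρ g ≠ 1) : Function.Injective ρ := by
  have h1 : Function.Injective ρ.toHomUnits := by
    rw [← MonoidHom.ker_eq_bot_iff]
    rcases (MonoidHom.normal_ker ρ.toHomUnits).eq_bot_or_eq_top with h1 | h1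
    · exact h1
    · exfalso
      obtain ⟨g, hg⟩ := h
      apply hg
      have h2 : g ∈ ρ.toHomUnits.ker := by rw [h1]; exact Subgroup.mem_top _
      exact congrArg Units.val (MonoidHom.mem_ker.1 h2)
  intro a b hab
  exact h1 (Units.ext hab)

theorem simple_HN : IsSimpleGroup Spor.HN := Cfsg.Agent.S1701.result.1

/-- **characteristic `≠ 5`** -/
theorem ls_five : LS.{0, v, w} 5 20 Spor.HN := by
  refine Cfsg.Agent.H388.EP.ls_of_rep S2056.result ?_
  intro K _ _ V _ _ _ ρ h5 hρ
  have := simple_HN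
  refine twenty_le (ρ.comp Cfsg.Agent.HN.NormalH.ψ) (by exact_mod_cast h5) ?_
  intro h
  apply c_ne
  apply ψ_inj
  apply rep_inj ρ hρ
  rw [map_one, map_one]
  exact h

/-- **odd characteristic** -/
theorem ls_two : LS.{0, v, w} 2 16 Spor.HN := by
  refine Cfsg.Agent.H388.EP.ls_of_rep S2056.result ?_
  intro K _ _ V _ _ _ ρ h2 hρ
  have := simple_HN
  have hfin := KFacts.HN.finite_HN
  have hE := Cfsg.Agent.H823.isExtraspecial_of KFacts.HN.large (by rw [KFacts.HN.card_RS]; norm_num)
  exact Cfsg.Agent.H861.ExtraRep.dim_bound (w := 4) hE (by rw [KFacts.HN.card_RS]; norm_num) (by exact_mod_cast h2)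
    (ρ.comp (Subgroup.subtype _)) ((rep_inj ρ hρ).comp (Subgroup.subtype_injective _))

/-- **characteristic 2: the degree is not 20** -/
theorem not_twenty {K : Type w} [Field K] [IsAlgClosed K] {V : Type w} [AddCommGroup V] [Module K V]
    [FiniteDimensional K V] (ρ : H0 →* (V →ₗ[K] V)) (h2 : (2 : K) = 0) (hn : finrank K V = 20) (hτ : ρ τ ≠ 1)
    (hc : ρ (hw wc) ≠ 1) : False := by
  have h5 : (5 : K) ≠ 0 := by
    have : (5 : K) = 1 + 2 * 2 := by norm_num
    rw [this, h2, mul_zero, add_zero]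
    exact one_ne_zero
  set N : V →ₗ[K] V := ρ τ - 1 with hN
  have hcomm : ∀ g v, N (ρ g v) = ρ g (N v) := by
    intro g v
    rw [hN, LinearMap.sub_apply, LinearMap.sub_apply, ← End.mul_apply, ← map_mul, ← τ_comm, map_mul,
      End.mul_apply, End.one_apply, End.one_apply, map_sub]
  have hNN : ∀ v, N (N v) = 0 := by
    intro v
    have h3 : ρ τ (ρ τ v) = v := by
      rw [← End.mul_apply, ← map_mul, τ_mul_τ, map_one, End.one_apply]
    rw [hN, LinearMap.sub_apply, LinearMap.sub_apply, End.one_apply, End.one_apply, map_sub, h3]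
    have h4 : v - ρ τ v - (ρ τ v - v) = (2 : K) • (v - ρ τ v) := by
      rw [two_smul]; abel
    rw [h4, h2, zero_smul]
  set U : Submodule K V := LinearMap.ker N with hU
  have hUt : U ≠ ⊤ := by
    intro h
    apply hτ
    have h3 : N = 0 := LinearMap.ker_eq_top.1 h
    exact sub_eq_zero.1 h3
  have hlt : finrank K U < 20 := by
    rw [← hn]
    exact Submodule.finrank_lt (lt_top_iff_ne_top.2 hUt).ne
  have hinv : ∀ g, ∀ v ∈ U, ρ g v ∈ U := by
    intro g v hv
    rw [hU, LinearMap.mem_ker] at hv ⊢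
    rw [hcomm, hv, map_zero]
  have hcU : ∀ v ∈ U, ρ (hw wc) v = v := by
    by_contra hcon
    push Not at hcon
    obtain ⟨v, hv, hv'⟩ := hcon
    have h3 := twenty_le (res ρ U hinv) h5 (by
      intro h
      apply hv'
      have h4 := LinearMap.congr_fun h ⟨v, hv⟩
      exact congrArg Subtype.val h4)
    omega
  have hM : ∀ v, ρ (hw wc) (ρ (hw wc) v - v) = ρ (hw wc) v - v := by
    intro v
    apply hcU
    rw [hU, LinearMap.mem_ker, map_sub, hcomm, hcU _ (by rw [hU, LinearMap.mem_ker]; exact hNN v), sub_self]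
  apply hc
  refine LinearMap.ext fun v => ?_
  rw [End.one_apply]
  have h6 : ∀ n : ℕ, ρ (hw wc ^ n) v = v + n • (ρ (hw wc) v - v) := by
    intro n
    induction n with
    | zero => simp
    | succ n ih =>
      rw [pow_succ', map_mul, End.mul_apply, ih, map_add, map_nsmul, hM, succ_nsmul]
      abel
  have h7 := h6 5
  rw [c_pow, map_one, End.one_apply] at h7
  have h8 : (5 : ℕ) • (ρ (hw wc) v - v) = 0 := by
    have := h7.symm
    rwa [add_eq_left] at this
  rw [← Nat.cast_smul_eq_nsmul K] at h8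
  have h9 := (smul_eq_zero.1 h8).resolve_left (by exact_mod_cast h5)
  exact sub_eq_zero.1 h9

end Cfsg.Agent.H502.EP.HN
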